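import Cfsg.Agent.H508.KB.Defs

/-!
# S4822, C0: the hull `S C_A(P)` (helper96)
-/

set_option autoImplicit false

open Cfsg Subgroup Cfsg.Agent.H508.KB
open scoped Pointwise

namespace Cfsg.Agent.H96.KB.Hull

universe u

variable {p : ℕ} [Fact p.Prime]

variable {A : Type u} [Group A] (S : Subgroup A) [S.Normal]

omit [Fact p.Prime] in
omit [S.Normal] in
theorem mem_cent {S : Subgroup A} {P : Sylow p ↥S} {x : A} :
    x ∈ centralizer (((P : Subgroup ↥S).map S.subtype : Subgroup A) : Set A) ↔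
      ∀ y : S, y ∈ (P : Subgroup ↥S) → (y : A) * x = x * y := by
  rw [mem_centralizer_iff]
  constructor
  · intro h y hy
    exact h y ⟨y, hy, rfl⟩
  · rintro h _ ⟨y, hy, rfl⟩
    exact h y hy

omit [Fact p.Prime] in
theorem conj_mem_cent (a : A) {P Q : Sylow p ↥S} (hQ : Q = (MulAut.conjNormal a : MulAut ↥S) • P) {x : A}
    (hx : x ∈ centralizer (((P : Subgroup ↥S).map S.subtype : Subgroup A) : Set A)) :
    a * x * a⁻¹ ∈ centralizer (((Q : Subgroup ↥S).map S.subtype : Subgroup A) : Set A) := by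
  rw [mem_cent] at hx ⊢
  intro y hy
  have h1 : (MulAut.conjNormal a : MulAut ↥S)⁻¹ • y ∈ (P : Subgroup ↥S) := by
    rw [← Subgroup.mem_pointwise_smul_iff_inv_smul_mem, ← Sylow.pointwise_smul_def, ← hQ]
    exact hy
  have h2 := hx _ h1
  have h3 : (((MulAut.conjNormal a : MulAut ↥S)⁻¹ • y : ↥S) : A) = a⁻¹ * y * a := by
    rw [← map_inv]
    have := MulAut.conjNormal_apply (H := S) a⁻¹ y
    rw [inv_inv] at this
    exact this
  rw [h3] at h2
  calc (y : A) * (a * x * a⁻¹) = a * ((a⁻¹ * y * a) * x) * a⁻¹ := by group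
    _ = a * x * a⁻¹ * y := by rw [h2]; group

/-- C0 -/
theorem hull_eq [Finite A] (hcop : ¬ p ∣ S.index) (P : Sylow p ↥S) :
    hull p S = S ⊔ centralizer (((P : Subgroup ↥S).map S.subtype : Subgroup A) : Set A) ∧ (hull p S).Normal := by
  have hS : S ≤ hull p S := le_sup_left
  have hC : ∀ Q : Sylow p ↥S, centralizer (((Q : Subgroup ↥S).map S.subtype : Subgroup A) : Set A) ≤ hull p S :=
    fun Q => le_sup_of_le_right (le_iSup (fun R : Sylow p ↥S =>
      centralizer (((R : Subgroup ↥S).map S.subtype : Subgroup A) : Set A)) Q)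
  have heq : hull p S = S ⊔ centralizer (((P : Subgroup ↥S).map S.subtype : Subgroup A) : Set A) := by
    apply le_antisymm
    · apply sup_le le_sup_left
      apply iSup_le
      intro Q x hx
      obtain ⟨s, hs⟩ := MulAction.exists_smul_eq S P Q
      have hs' : P = (MulAut.conjNormal ((s : A)⁻¹) : MulAut ↥S) • Q := by
        have h1 : P = s⁻¹ • Q := by rw [← hs, inv_smul_smul]
        rw [h1, Sylow.smul_def]
        congr 1
        rw [← MulAut.conjNormal_val]
        rfl
      have h1 := conj_mem_cent S _ hs' hx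
      have h2 : x = s * ((s : A)⁻¹ * x * (s : A)⁻¹⁻¹) * (s : A)⁻¹ := by group
      rw [h2]
      exact mul_mem (mul_mem ((le_sup_left : S ≤ _) s.2) ((le_sup_right : _ ≤ S ⊔ _) h1))
        ((le_sup_left : S ≤ _) (S.inv_mem s.2))
    · exact sup_le hS (hC P)
  refine ⟨heq, ⟨fun n hn a => ?_⟩⟩
  rw [heq] at hn
  obtain ⟨s, hs, c, hc, rfl⟩ := (Subgroup.mem_sup_of_normal_left (s := S)
    (t := centralizer (((P : Subgroup ↥S).map S.subtype : Subgroup A) : Set A))).1 hn
  have h1 : a * (s * c) * a⁻¹ = (a * s * a⁻¹) * (a * c * a⁻¹) := by group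
  rw [h1]
  exact mul_mem (hS (‹S.Normal›.conj_mem s hs a)) (hC _ (conj_mem_cent S a rfl hc))

end Cfsg.Agent.H96.KB.Hull
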